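import Groth.Agent.Lib.Gonflement.Separable
import Groth.Agent.Lib.Hensel.TensorIntegral
import Mathlib.FieldTheory.PurelyInseparable.Basic
import Mathlib.RingTheory.DiscreteValuationRing.Basic
import Mathlib.LinearAlgebra.FreeModule.PID
import Mathlib.RingTheory.Flat.TorsionFree

/-!
# A discrete valuation ring with purely inseparable residue extension
-/

set_option autoImplicit false
set_option linter.all false
set_option backward.isDefEq.respectTransparency false

universe u

open IsLocalRing MvPolynomial

namespace GrothLib.GonfPerfect10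

open GrothLib.Gonflement

theorem finrank_eq_pow_of_ker {R : Type u} [CommRing R] [IsDomain R] [IsPrincipalIdealRing R] [IsLocalRing R]
    {K : Type u} [Field K] [Algebra (ResidueField R) K] [IsPurelyInseparable (ResidueField R) K]
    [Algebra R K] [IsScalarTower R (ResidueField R) K]
    (q : ℕ) [ExpChar (ResidueField R) q]
    {S : Type u} [CommRing S] [Algebra R S] [Module.Finite R S] [Module.IsTorsionFree R S] (ψ : S →ₐ[R] K)
    (hψ : RingHom.ker ψ = (maximalIdeal R).map (algebraMap R S)) :
    ∃ m, Module.finrank R S = q ^ m := by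
  classical
  obtain ⟨ι, b⟩ := Module.Free.exists_basis R S
  haveI : Finite ι := Module.Finite.finite_basis b
  haveI := Fintype.ofFinite ι
  let v : ι → K := fun i => ψ (b i)
  have hψsmul : ∀ (c : R) (i : ι), ψ (c • b i) = residue R c • v i := fun c i => by
    show ψ (c • b i) = algebraMap R (ResidueField R) c • ψ (b i)
    rw [map_smul, algebraMap_smul]
  have hexp : ∀ y : S, ψ y = ∑ i, residue R (b.repr y i) • v i := fun y => by
    conv_lhs => rw [← b.sum_repr y]
    rw [map_sum]
    exact Finset.sum_congr rfl fun i _ => hψsmul _ _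
  have hspan : ∀ y : S, ψ y ∈ Submodule.span (ResidueField R) (Set.range v) := fun y => by
    rw [hexp]
    exact Submodule.sum_mem _ fun i _ => Submodule.smul_mem _ _ (Submodule.subset_span ⟨i, rfl⟩)
  have hrep : ∀ z ∈ Submodule.span (ResidueField R) (Set.range v), ∃ y : S, ψ y = z := fun z hz => by
    induction hz using Submodule.span_induction with
    | mem z hz => obtain ⟨i, rfl⟩ := hz; exact ⟨b i, rfl⟩
    | zero => exact ⟨0, map_zero ψ⟩
    | add x y _ _ hx hy =>
      obtain ⟨a, rfl⟩ := hx
      obtain ⟨c, rfl⟩ := hy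
      exact ⟨a + c, map_add ψ a c⟩
    | smul c z _ hz =>
      obtain ⟨a, rfl⟩ := hz
      obtain ⟨c, rfl⟩ := residue_surjective c
      refine ⟨c • a, ?_⟩
      rw [map_smul]
      exact (algebraMap_smul (ResidueField R) c _).symm
  have hli : LinearIndependent (ResidueField R) v := by
    rw [Fintype.linearIndependent_iff]
    intro g hg i
    obtain ⟨c, hc⟩ : ∃ c : ι → R, ∀ j, residue R (c j) = g j :=
      ⟨fun j => (residue_surjective (g j)).choose, fun j => (residue_surjective (g j)).choose_spec⟩
    have h0 : ψ (∑ j, c j • b j) = 0 := by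
      rw [map_sum, ← hg]
      exact Finset.sum_congr rfl fun j _ => by rw [hψsmul, hc]
    rw [← RingHom.mem_ker, hψ] at h0
    have hmem : ∀ y ∈ (maximalIdeal R).map (algebraMap R S), b.repr y i ∈ maximalIdeal R := by
      intro y hy
      rw [Ideal.map, ← Ideal.submodule_span_eq] at hy
      induction hy using Submodule.span_induction generalizing i with
      | mem z hz =>
        obtain ⟨r, hr, rfl⟩ := hz
        rw [Algebra.algebraMap_eq_smul_one, map_smul, Finsupp.smul_apply, smul_eq_mul]
        exact Ideal.mul_mem_right _ _ hr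
      | zero => simp
      | add x y _ _ hx hy => rw [map_add, Finsupp.add_apply]; exact add_mem (hx i) (hy i)
      | smul a z _ hz =>
        rw [← b.sum_repr z, Finset.smul_sum, map_sum, Finsupp.finsetSum_apply]
        refine Ideal.sum_mem _ fun j _ => ?_
        rw [smul_eq_mul, mul_smul_comm, map_smul, Finsupp.smul_apply, smul_eq_mul]
        exact Ideal.mul_mem_right _ _ (hz j)
    have h := hmem _ h0
    rw [b.repr_sum_self] at h
    rw [← hc, residue_eq_zero_iff]
    exact h
  let L : Subalgebra (ResidueField R) K := (Submodule.span (ResidueField R) (Set.range v)).toSubalgebra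
    (by obtain h := hspan 1; rwa [map_one] at h)
    (fun x y hx hy => by
      obtain ⟨a, rfl⟩ := hrep x hx
      obtain ⟨c, rfl⟩ := hrep y hy
      rw [← map_mul]
      exact hspan _)
  have hinv : ∀ x ∈ L, x⁻¹ ∈ L := fun x hx =>
    L.inv_mem_of_algebraic (x := ⟨x, hx⟩) (Algebra.IsAlgebraic.isAlgebraic x)
  let F : IntermediateField (ResidueField R) K := L.toIntermediateField hinv
  have hF : Subalgebra.toSubmodule F.toSubalgebra = Submodule.span (ResidueField R) (Set.range v) := rfl
  have hrank : Module.finrank (ResidueField R) F = Fintype.card ι := by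
    rw [← finrank_span_eq_card hli]
    rfl
  haveI : FiniteDimensional (ResidueField R) F := Module.Finite.span_of_finite _ (Set.finite_range v)
  obtain ⟨m, hm⟩ := IsPurelyInseparable.finrank_eq_pow (ResidueField R) F q
  exact ⟨m, by rw [Module.finrank_eq_card_basis b, ← hrank, hm]⟩

theorem exists_dvr_purelyInseparable {R : Type u} [CommRing R] [IsDomain R] [IsDiscreteValuationRing R]
    [HenselianLocalRing R] (K : Type u) [Field K] [Algebra (ResidueField R) K]
    [IsPurelyInseparable (ResidueField R) K] [Algebra R K] [IsScalarTower R (ResidueField R) K]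
    (q : ℕ) [ExpChar (ResidueField R) q] (hperf : ∀ a : K, ∃ c : K, c ^ q = a) :
    ∃ (R' : Type u) (_ : CommRing R') (_ : IsDomain R') (_ : IsDiscreteValuationRing R')
      (_ : HenselianLocalRing R') (_ : Algebra R R'),
      Function.Injective (algebraMap R R') ∧
      Ideal.map (algebraMap R R') (maximalIdeal R) = maximalIdeal R' ∧
      (∀ s : Finset R', ∃ S : Subalgebra R R', (↑s : Set R') ⊆ ↑S ∧ Module.Finite R S ∧ Module.Free R S ∧
        ∃ m : ℕ, Module.finrank R S = q ^ m) ∧
      (∀ y : R', ∃ z : R', z ^ q - y ∈ maximalIdeal R') ∧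
      (∀ y : R', ∃ (m : ℕ) (z : R), algebraMap R R' z - y ^ (q ^ m) ∈ maximalIdeal R') := by
  classical
  have halg : algebraMap R K = (algebraMap (ResidueField R) K).comp (residue R) :=
    IsScalarTower.algebraMap_eq R (ResidueField R) K
  have hk : RingHom.ker (algebraMap R K) = maximalIdeal R := by
    ext r
    rw [halg, RingHom.mem_ker, RingHom.comp_apply, map_eq_zero, residue_eq_zero_iff]
  have hx : ∀ y : K, IsIntegral R y := fun y => by
    obtain ⟨p, hp, hp0⟩ := (inferInstance : Algebra.IsIntegral (ResidueField R) K).isIntegral y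
    obtain ⟨p', hp', -, hm⟩ := Polynomial.lifts_and_natDegree_eq_and_monic
      (Polynomial.map_surjective (residue R) residue_surjective p) hp
    refine ⟨p', hm, ?_⟩
    rw [halg, ← Polynomial.eval₂_map, hp', hp0]
  letI : LinearOrder K := linearOrderOfSTO WellOrderingRel
  haveI : WellFoundedLT K := ⟨(IsWellFounded.wf : WellFounded (WellOrderingRel : K → K → Prop))⟩
  choose D hD using fun i => exists_min_datum (R := R) (id : K → K) i (hx i)
  obtain ⟨hN, hL, hF, hS, hK⟩ := bigRing_spec (id : K → K) D hk hD fun c => ⟨X c, by simp⟩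
  set B := BigRing (id : K → K) D
  haveI := hN
  haveI := hL
  have hmB : (maximalIdeal R).map (algebraMap R B) = maximalIdeal B := by
    rw [← hK]
    exact IsLocalRing.eq_maximalIdeal (RingHom.ker_isMaximal_of_surjective _ hS)
  haveI hloc : IsLocalHom (algebraMap R B) := ((local_hom_TFAE _).out 0 2).2 hmB.le
  haveI : Module.Flat R B := RingHom.flat_algebraMap_iff.1 hF
  haveI : Module.FaithfullyFlat R B := Module.FaithfullyFlat.of_flat_of_isLocalHom
  have hinj : Function.Injective (algebraMap R B) := FaithfulSMul.algebraMap_injective R B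
  obtain ⟨t, ht⟩ := IsDiscreteValuationRing.exists_irreducible R
  have hmax : maximalIdeal B = Ideal.span {algebraMap R B t} := by
    rw [← hmB, ht.maximalIdeal_eq, Ideal.map_span, Set.image_singleton]
  have hnil : ∀ n : ℕ, algebraMap R B t ^ n ≠ 0 := fun n h => by
    rw [← map_pow, map_eq_zero_iff _ hinj] at h
    exact pow_ne_zero n ht.ne_zero h
  obtain ⟨_, hdvr⟩ := dvr_of_principal hmax hnil
  have hstage : ∀ s : Finset B, ∃ S : Stage (id : K → K) D, (s : Set B) ⊆ Set.range (toBig (id : K → K) D S) := by
    intro s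
    have hone : ∀ y : B, ∃ T : Finset K, ∀ U : Stage (id : K → K) D, T ⊆ U.1 →
        y ∈ Set.range (toBig (id : K → K) D U) := by
      intro y
      obtain ⟨p, rfl⟩ := Ideal.Quotient.mk_surjective y
      obtain ⟨T, w, rfl⟩ := exists_finset_rename p
      refine ⟨T, fun U hU => ⟨Ideal.Quotient.mk _ (rename (incl hU) w), ?_⟩⟩
      show Ideal.Quotient.mk _ (rename Subtype.val (rename (incl hU) w)) = _
      rw [rename_rename]
      rfl
    choose T hT using hone
    obtain ⟨U, hU, hUc⟩ := exists_closed_superset (id : K → K) D (s.biUnion T)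
    exact ⟨⟨U, hUc⟩, fun y hy => hT y _ fun a ha => hU (Finset.mem_biUnion.2 ⟨y, hy, ha⟩)⟩
  haveI : Algebra.IsIntegral R B := ⟨fun y => by
    obtain ⟨S, hS⟩ := hstage {y}
    obtain ⟨w, hw⟩ := hS (by simp : y ∈ (({y} : Finset B) : Set B))
    haveI := (good (id : K → K) D hk hD _ S rfl).1
    exact hw ▸ (IsIntegral.of_finite R w).map (toBig (id : K → K) D S)⟩
  haveI : HenselianLocalRing B := GrothLib.Hensel.henselianLocalRing_of_isIntegral_isLocalHom (R := R)
  refine ⟨B, inferInstance, inferInstance, hdvr, inferInstance, inferInstance, hinj, hmB, fun s => ?_, fun y => ?_,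
    fun y => ?_⟩
  · obtain ⟨S, hS⟩ := hstage s
    obtain ⟨hfin, hker⟩ := good (id : K → K) D hk hD _ S rfl
    haveI := hfin
    let T : Subalgebra R B := (toBig (id : K → K) D S).range
    haveI : Module.Finite R T :=
      Module.Finite.of_surjective (toBig (id : K → K) D S).rangeRestrict.toLinearMap
        (toBig (id : K → K) D S).rangeRestrict_surjective
    haveI : Module.IsTorsionFree R B := inferInstance
    haveI : Module.IsTorsionFree R T :=
      Function.Injective.moduleIsTorsionFree (Subtype.val : T → B) Subtype.val_injective (fun _ _ => rfl)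
    refine ⟨T, fun y hy => hS hy, inferInstance, inferInstance, ?_⟩
    refine finrank_eq_pow_of_ker (K := K) q ((bigEval (id : K → K) D).comp T.val) (le_antisymm ?_ ?_)
    · rintro ⟨_, w, rfl⟩ hy
      have hw : w ∈ RingHom.ker (stageEval (id : K → K) D S) := hy
      rw [hker] at hw
      have h := Ideal.mem_map_of_mem (toBig (id : K → K) D S).rangeRestrict.toRingHom hw
      rw [Ideal.map_map] at h
      rwa [show (toBig (id : K → K) D S).rangeRestrict.toRingHom.comp
        (algebraMap R (StageRing (id : K → K) D S)) = algebraMap R T from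
        (toBig (id : K → K) D S).rangeRestrict.comp_algebraMap] at h
    · rw [Ideal.map_le_iff_le_comap]
      intro r hr
      rw [Ideal.mem_comap, RingHom.mem_ker, AlgHom.commutes]
      rw [← hk] at hr
      exact hr
  · obtain ⟨c, hc⟩ := hperf (bigEval (id : K → K) D y)
    obtain ⟨z, rfl⟩ := hS c
    refine ⟨z, ?_⟩
    rw [← hmB, ← hK, RingHom.mem_ker, map_sub, map_pow, hc, sub_self]
  · obtain ⟨m, a, ha⟩ := IsPurelyInseparable.pow_mem (ResidueField R) q (bigEval (id : K → K) D y)
    obtain ⟨z, rfl⟩ := residue_surjective a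
    refine ⟨m, z, ?_⟩
    rw [← hmB, ← hK, RingHom.mem_ker, map_sub, map_pow, AlgHom.commutes, halg, RingHom.comp_apply, ha, sub_self]

end GrothLib.GonfPerfect10
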